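import Groth.Agent.SepAffine.Alg
import Groth.Agent.RedSepLib.Basic

/-!
Prime avoidance in a coset, and functions on an affine scheme with prescribed restriction to a reduced
closed subscheme avoiding finitely many points.
-/

set_option autoImplicit false
set_option backward.isDefEq.respectTransparency false
universe u
open CategoryTheory CategoryTheory.Limits AlgebraicGeometry

namespace Groth.Agent.CompAffine

/-- A coset of an ideal avoids finitely many primes as soon as each is avoided by `a` or does not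
contain the ideal. -/
theorem exists_add_avoid {A : Type u} [CommRing A] (I : Ideal A) (a : A) (T : Finset (Ideal A))
    (hT : ∀ p ∈ T, p.IsPrime) (h : ∀ p ∈ T, a ∉ p ∨ ¬ I ≤ p) : ∃ i ∈ I, ∀ p ∈ T, a + i ∉ p := by
  classical
  let T₁ := T.filter fun p => a ∈ p
  let T₂ := T.filter fun p => a ∉ p ∧ ∀ q ∈ T₁, ¬ p ≤ q
  obtain ⟨i, hi, hiT⟩ := SepAffine.exists_mem_avoid (I ⊓ T₂.inf id) T₁
    (fun p hp => hT p (Finset.mem_filter.1 hp).1) fun q hq hle => by
      obtain ⟨hqT, haq⟩ := Finset.mem_filter.1 hq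
      haveI := hT q hqT
      rcases (Ideal.IsPrime.inf_le ‹q.IsPrime›).1 hle with h1 | h1
      · exact (h q hqT).elim (fun hn => hn haq) (fun hn => hn h1)
      · obtain ⟨p, hp, hpq⟩ := (Ideal.IsPrime.inf_le' ‹q.IsPrime›).1 h1
        exact (Finset.mem_filter.1 hp).2.2 q hq hpq
  refine ⟨i, hi.1, fun p hp hmem => ?_⟩
  by_cases hap : a ∈ p
  · exact hiT p (Finset.mem_filter.2 ⟨hp, hap⟩) (by simpa using p.sub_mem hmem hap)
  by_cases hex : ∃ q ∈ T₁, p ≤ q
  · obtain ⟨q, hq, hpq⟩ := hex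
    exact hiT q hq (by simpa using q.sub_mem (hpq hmem) (Finset.mem_filter.1 hq).2)
  · push Not at hex
    have hip : i ∈ p := (Finset.inf_le (Finset.mem_filter.2 ⟨hp, hap, hex⟩) : T₂.inf id ≤ p) hi.2
    exact hap (by simpa using p.sub_mem hmem hip)

/-- A function on a reduced closed subscheme of an affine scheme extends to one not vanishing at
given points outside the zero locus of the function. -/
theorem exists_lift_avoid {V S : Scheme.{u}} [IsAffine V] [IsReduced S] (b : S ⟶ V) [IsClosedImmersion b]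
    (s : Γ(S, ⊤)) {E : Set V} (hE : E.Finite) (h : ∀ z : S, b z ∈ E → z ∈ S.basicOpen s) :
    ∃ a : Γ(V, ⊤), b.appTop a = s ∧ E ⊆ V.basicOpen a := by
  classical
  obtain ⟨a₀, ha₀⟩ := b.app_surjective ⊤ (isAffineOpen_top V) s
  let pr : V → Ideal Γ(V, ⊤) := fun y => (V.toSpecΓ y).asIdeal
  have hmem : ∀ (r : Γ(V, ⊤)) (y : V), y ∈ V.basicOpen r ↔ r ∉ pr y := fun r y => by
    rw [← Scheme.toSpecΓ_preimage_basicOpen]
    rfl
  let T := hE.toFinset.image pr
  obtain ⟨i, hi, hiT⟩ := exists_add_avoid (RingHom.ker b.appTop.hom) a₀ T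
    (fun p hp => by
      obtain ⟨y, -, rfl⟩ := Finset.mem_image.1 hp
      exact (V.toSpecΓ y).isPrime)
    (fun p hp => by
      obtain ⟨y, hy, rfl⟩ := Finset.mem_image.1 hp
      by_cases hr : y ∈ Set.range b
      · obtain ⟨z, rfl⟩ := hr
        refine Or.inl ((hmem a₀ (b z)).1 ?_)
        have h1 : z ∈ b ⁻¹ᵁ V.basicOpen a₀ := by
          rw [Scheme.preimage_basicOpen_top]
          convert h z (hE.mem_toFinset.1 hy) using 3
          exact ha₀
        exact h1
      · refine Or.inr fun hle => ?_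
        obtain ⟨r, hr', hyr⟩ : ∃ r : Γ(V, ⊤), (V.basicOpen r : Set V) ⊆ (Set.range b)ᶜ ∧ y ∈ V.basicOpen r := by
          obtain ⟨_, ⟨_, ⟨r, rfl⟩, rfl⟩, hyr, hr'⟩ := (isBasis_basicOpen V).exists_subset_of_mem_open
            (show y ∈ (Set.range b)ᶜ from hr) b.isClosedEmbedding.isClosed_range.isOpen_compl
          exact ⟨r, hr', hyr⟩
        refine (hmem r y).1 hyr (hle ?_)
        show b.appTop r = 0
        rw [← basicOpen_eq_bot_iff, ← Scheme.preimage_basicOpen_top]
        exact TopologicalSpace.Opens.ext (Set.eq_empty_iff_forall_notMem.2 fun z hz => hr' hz ⟨z, rfl⟩))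
  refine ⟨a₀ + i, ?_, fun y hy => (hmem _ y).2 (hiT _ (Finset.mem_image.2 ⟨y, hE.mem_toFinset.2 hy, rfl⟩))⟩
  rw [map_add, show b.appTop i = 0 from hi, add_zero]
  exact ha₀

end Groth.Agent.CompAffine
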