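import Groth.Agent.CompAffine.Avoid
import Groth.Agent.Grpd.InvAffine
import Groth.Agent.DvrDom.ClosedProper
import Groth.Agent.AbsApprox.Chevalley

/-!
Finitely many points have a common affine neighbourhood as soon as this holds on every member of a
finite closed cover.
-/

set_option autoImplicit false
set_option backward.isDefEq.respectTransparency false
set_option linter.style.haveILetI false
set_option maxHeartbeats 1000000
universe u
open CategoryTheory CategoryTheory.Limits AlgebraicGeometry TopologicalSpace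

noncomputable section

namespace Groth.Agent.CompAffine

variable {X : Scheme.{u}}

/-- The reduced closed subscheme. -/
abbrev red (Z : Closeds X) : Scheme.{u} := (Scheme.IdealSheafData.vanishingIdeal Z).subscheme

/-- Its inclusion. -/
abbrev redι (Z : Closeds X) : red Z ⟶ X := (Scheme.IdealSheafData.vanishingIdeal Z).subschemeι

lemma range_redι (Z : Closeds X) : Set.range (redι Z) = Z := by simp [redι]

instance (Z : Closeds X) : IsReduced (red Z) := DvrDom.isReduced_vanishingIdeal_subscheme Z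

/-- `T ∩ Z` has an open neighbourhood whose trace on the reduced `Z` is affine. -/
def Good (T : Set X) (Z : Closeds X) : Prop :=
  ∃ U : X.Opens, T ∩ Z ⊆ U ∧ IsAffineOpen (redι Z ⁻¹ᵁ U)

/-- The open of `X` cutting out the given open of a closed subscheme. -/
def ext (Z : Closeds X) (D : (red Z).Opens) : X.Opens :=
  ⟨(redι Z '' (D : Set (red Z))ᶜ)ᶜ, ((redι Z).isClosedEmbedding.isClosedMap _ D.2.isClosed_compl).isOpen_compl⟩

lemma mem_ext {Z : Closeds X} {D : (red Z).Opens} {x : X} :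
    x ∈ ext Z D ↔ ∀ z, redι Z z = x → z ∈ D := by
  constructor
  · intro h z hz; by_contra hn; exact h ⟨z, hn, hz⟩
  · rintro h ⟨z, hn, hz⟩; exact hn (h z hz)

/-- An affine open of the reduced `Z` through `T ∩ Z`. -/
theorem good_of_isAffineOpen {T : Set X} (Z : Closeds X) (V : (red Z).Opens) (hV : IsAffineOpen V)
    (hVT : ∀ t ∈ T, t ∈ (Z : Set X) → t ∈ redι Z '' (V : Set (red Z))) : Good T Z := by
  refine ⟨ext Z V, fun t ht => mem_ext.2 fun z hz => ?_, ?_⟩
  · obtain ⟨w, hw, hwt⟩ := hVT t ht.1 ht.2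
    rwa [(redι Z).isClosedEmbedding.injective (hz.trans hwt.symm)]
  · convert hV using 1
    ext z
    refine ⟨fun hz => (mem_ext (Z := Z) (D := V) (x := redι Z z)).1 hz z rfl,
      fun hz => (mem_ext (Z := Z) (D := V) (x := redι Z z)).2 fun z' e => ?_⟩
    rw [(redι Z).isClosedEmbedding.injective e]
    exact hz

set_option maxHeartbeats 4000000 in
theorem good_union {T : Set X} (hT : T.Finite) (Z Z' : Closeds X) (h : Good T Z) (h' : Good T Z') :
    Good T (Z ⊔ Z') := by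
  classical
  obtain ⟨U, hTU, hW⟩ := h
  obtain ⟨U', hTU', hW'⟩ := h'
  let O₀ : X.Opens := ext Z (redι Z ⁻¹ᵁ U) ⊓ ext Z' (redι Z' ⁻¹ᵁ U')
  have hTO₀ : ∀ t ∈ T, t ∈ O₀ := fun t ht => ⟨mem_ext.2 fun z hz => by
      show redι Z z ∈ U
      rw [hz]; exact hTU ⟨ht, (range_redι Z).le ⟨z, hz⟩⟩,
    mem_ext.2 fun z hz => by
      show redι Z' z ∈ U'
      rw [hz]; exact hTU' ⟨ht, (range_redι Z').le ⟨z, hz⟩⟩⟩
  let W := redι Z ⁻¹ᵁ U
  let W' := redι Z' ⁻¹ᵁ U'
  haveI : IsAffine W.toScheme := hW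
  haveI : IsAffine W'.toScheme := hW'
  let i : W.toScheme ⟶ X := W.ι ≫ redι Z
  let i' : W'.toScheme ⟶ X := W'.ι ≫ redι Z'
  have hi : ∀ w, i w = redι Z w.1 := fun w => rfl
  have hi' : ∀ w, i' w = redι Z' w.1 := fun w => rfl
  have hfin : (i ⁻¹' T).Finite :=
    hT.preimage ((redι Z).isClosedEmbedding.injective.comp W.ι.isOpenEmbedding.injective).injOn
  have hfin' : (i' ⁻¹' T).Finite :=
    hT.preimage ((redι Z').isClosedEmbedding.injective.comp W'.ι.isOpenEmbedding.injective).injOn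
  -- the neighbourhood on the second piece
  obtain ⟨h₀, hh₀, hTh₀⟩ := GrpdLib.exists_basicOpen_of_finite (i' ⁻¹ᵁ O₀) hfin' fun w hw => hTO₀ _ hw
  let Dh : (red Z').Opens := W'.ι ''ᵁ W'.toScheme.basicOpen h₀
  let B : X.Opens := O₀ ⊓ ext Z' Dh
  have hTB : ∀ t ∈ T, t ∈ B := fun t ht => ⟨hTO₀ t ht, mem_ext.2 fun z hz => by
    have hzW : z ∈ W' := by
      show redι Z' z ∈ U'
      rw [hz]; exact hTU' ⟨ht, (range_redι Z').le ⟨z, hz⟩⟩
    exact ⟨⟨z, hzW⟩, hTh₀ (show i' ⟨z, hzW⟩ ∈ T by rw [hi', hz]; exact ht), rfl⟩⟩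
  -- the neighbourhood on the first piece
  obtain ⟨f, hf, hTf⟩ := GrpdLib.exists_basicOpen_of_finite (i ⁻¹ᵁ B) hfin fun w hw => hTB _ hw
  let Df : (red Z).Opens := W.ι ''ᵁ W.toScheme.basicOpen f
  -- the common piece
  let C : Closeds X := Z ⊓ Z'
  let SC : (red C).Opens := redι C ⁻¹ᵁ B
  let sc : SC.toScheme ⟶ X := SC.ι ≫ redι C
  have hscC : ∀ z, sc z ∈ (Z : Set X) ∧ sc z ∈ (Z' : Set X) := fun z =>
    ((range_redι C).le ⟨_, rfl⟩ : redι C z.1 ∈ (C : Set X))
  haveI : IsReduced SC.toScheme := isReduced_of_isOpenImmersion SC.ι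
  obtain ⟨a₁, ha₁⟩ := RedSepLib.exists_lift_of_isReduced sc (redι Z)
    (by rintro _ ⟨z, rfl⟩; exact (range_redι Z).ge (hscC z).1)
  obtain ⟨b₁, hb₁⟩ := RedSepLib.exists_lift_of_isReduced sc (redι Z')
    (by rintro _ ⟨z, rfl⟩; exact (range_redι Z').ge (hscC z).2)
  have hsw : ∀ z : SC.toScheme, a₁ z ∈ W := fun z => by
    have h2 : sc z ∈ O₀ := z.2.1
    exact mem_ext.1 h2.1 _ (congr($ha₁ z))
  let Dh' : W'.toScheme.Opens := W'.toScheme.basicOpen h₀
  haveI : IsAffine Dh'.toScheme := (isAffineOpen_top W'.toScheme).basicOpen h₀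
  have hsd : ∀ z : SC.toScheme, b₁ z ∈ Dh := fun z => mem_ext.1 z.2.2 _ (congr($hb₁ z))
  let a : SC.toScheme ⟶ W.toScheme := IsOpenImmersion.lift W.ι a₁ (by
    rintro _ ⟨z, rfl⟩; exact ⟨⟨a₁ z, hsw z⟩, rfl⟩)
  let ιh : Dh'.toScheme ⟶ red Z' := Dh'.ι ≫ W'.ι
  let b : SC.toScheme ⟶ Dh'.toScheme := IsOpenImmersion.lift ιh b₁ (by
    rintro _ ⟨z, rfl⟩
    obtain ⟨w, hw, e⟩ := hsd z
    exact ⟨⟨w, hw⟩, e⟩)
  have hb : b ≫ ιh = b₁ := IsOpenImmersion.lift_fac _ _ _
  have ha : a ≫ W.ι = a₁ := IsOpenImmersion.lift_fac _ _ _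
  haveI : IsClosedImmersion b := by
    haveI : IsClosedImmersion b₁ → True := fun _ => trivial
    let G : (red Z').Opens := redι Z' ⁻¹ᵁ B
    have hbG : ∀ z : SC.toScheme, b₁ z ∈ G := fun z => by
      show redι Z' (b₁ z) ∈ B
      rw [show redι Z' (b₁ z) = sc z from congr($hb₁ z)]
      exact z.2
    have hGD : ∀ w : Dh'.toScheme, ιh w ∈ G := fun w => by
      refine ⟨hh₀ w.2, mem_ext.2 fun z hz => ?_⟩
      have : z = ιh w := (redι Z').isClosedEmbedding.injective hz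
      rw [this]
      exact ⟨w.1, w.2, rfl⟩
    let b₂ : SC.toScheme ⟶ G.toScheme := IsOpenImmersion.lift G.ι b₁ (by
      rintro _ ⟨z, rfl⟩; exact ⟨⟨_, hbG z⟩, rfl⟩)
    have hb₂ : b₂ ≫ (redι Z' ∣_ B) = redι C ∣_ B := by
      rw [← cancel_mono B.ι, Category.assoc, morphismRestrict_ι, morphismRestrict_ι,
        ← Category.assoc, IsOpenImmersion.lift_fac, hb₁]
    haveI : IsClosedImmersion (b₂ ≫ (redι Z' ∣_ B)) := by
      rw [hb₂]; exact IsZariskiLocalAtTarget.restrict (P := @IsClosedImmersion) inferInstance B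
    haveI : IsClosedImmersion b₂ := IsClosedImmersion.of_comp b₂ (redι Z' ∣_ B)
    let e : Dh'.toScheme ⟶ G.toScheme := IsOpenImmersion.lift G.ι ιh (by
      rintro _ ⟨w, rfl⟩; exact ⟨⟨_, hGD w⟩, rfl⟩)
    have he : b ≫ e = b₂ := by
      rw [← cancel_mono G.ι, Category.assoc, IsOpenImmersion.lift_fac, hb, IsOpenImmersion.lift_fac]
    haveI : IsClosedImmersion (b ≫ e) := he ▸ inferInstance
    exact IsClosedImmersion.of_comp b e
  -- the function on the second piece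
  obtain ⟨g, hg, hTg⟩ := exists_lift_avoid b (a.appTop f)
    (hfin'.preimage Dh'.ι.isOpenEmbedding.injective.injOn) (fun z hz => by
      rw [← Scheme.preimage_basicOpen_top]
      refine hTf (show redι Z (W.ι (a z)) ∈ T from ?_)
      rw [show W.ι (a z) = a₁ z from congr($ha z), show redι Z (a₁ z) = sc z from congr($ha₁ z),
        ← show redι Z' (b₁ z) = sc z from congr($hb₁ z), ← show ιh (b z) = b₁ z from congr($hb z)]
      exact hz)
  let Dg : (red Z').Opens := ιh ''ᵁ Dh'.toScheme.basicOpen g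
  have hkey : ∀ z : SC.toScheme, (a₁ z ∈ Df ↔ b₁ z ∈ Dg) := fun z => by
    rw [← show W.ι (a z) = a₁ z from congr($ha z), ← show ιh (b z) = b₁ z from congr($hb z)]
    have h1 : a z ∈ W.toScheme.basicOpen f ↔ b z ∈ Dh'.toScheme.basicOpen g := by
      show z ∈ a ⁻¹ᵁ W.toScheme.basicOpen f ↔ z ∈ b ⁻¹ᵁ Dh'.toScheme.basicOpen g
      rw [Scheme.preimage_basicOpen_top, Scheme.preimage_basicOpen_top, hg]
    constructor
    · rintro ⟨w, hw, e⟩
      exact ⟨b z, h1.1 (W.ι.isOpenEmbedding.injective e ▸ hw), rfl⟩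
    · rintro ⟨w, hw, e⟩
      exact ⟨a z, h1.2 (ιh.isOpenEmbedding.injective e ▸ hw), rfl⟩
  have hmatch : ∀ (x : X), x ∈ (Z : Set X) → x ∈ (Z' : Set X) → x ∈ B →
      ∃ z : SC.toScheme, redι Z (a₁ z) = x ∧ redι Z' (b₁ z) = x := fun x hx hx' hxB => by
    obtain ⟨c, rfl⟩ := (range_redι C).ge (⟨hx, hx'⟩ : x ∈ (C : Set X))
    exact ⟨⟨c, hxB⟩, congr($ha₁ ⟨c, hxB⟩), congr($hb₁ ⟨c, hxB⟩)⟩
  have hDfB : ∀ z ∈ Df, redι Z z ∈ B := by rintro _ ⟨w, hw, rfl⟩; exact hf hw
  have hDgB : ∀ z ∈ Dg, redι Z' z ∈ B := by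
    rintro _ ⟨w, -, rfl⟩
    refine ⟨hh₀ w.2, mem_ext.2 fun z hz => ?_⟩
    rw [(redι Z').isClosedEmbedding.injective hz]
    exact ⟨w.1, w.2, rfl⟩
  let Un : X.Opens := ext Z Df ⊓ ext Z' Dg
  have hUZ : redι Z ⁻¹ᵁ Un = Df := by
    ext z
    refine ⟨fun hz => mem_ext.1 hz.1 z rfl, fun hz => ⟨mem_ext.2 fun z' e => ?_, mem_ext.2 fun z' e => ?_⟩⟩
    · rwa [(redι Z).isClosedEmbedding.injective e]
    · obtain ⟨s, hs, hs'⟩ := hmatch (redι Z z) ((range_redι Z).le ⟨z, rfl⟩)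
        ((range_redι Z').le ⟨z', e⟩) (hDfB z hz)
      rw [(redι Z').isClosedEmbedding.injective (e.trans hs'.symm)]
      refine (hkey s).1 ?_
      rwa [(redι Z).isClosedEmbedding.injective hs]
  have hUZ' : redι Z' ⁻¹ᵁ Un = Dg := by
    ext z
    refine ⟨fun hz => mem_ext.1 hz.2 z rfl, fun hz => ⟨mem_ext.2 fun z' e => ?_, mem_ext.2 fun z' e => ?_⟩⟩
    · obtain ⟨s, hs, hs'⟩ := hmatch (redι Z' z) ((range_redι Z).le ⟨z', e⟩)
        ((range_redι Z').le ⟨z, rfl⟩) (hDgB z hz)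
      rw [(redι Z).isClosedEmbedding.injective (e.trans hs.symm)]
      refine (hkey s).2 ?_
      rwa [(redι Z').isClosedEmbedding.injective hs']
    · rwa [(redι Z').isClosedEmbedding.injective e]
  refine ⟨Un, fun t ⟨ht, _⟩ => ⟨mem_ext.2 fun z hz => ?_, mem_ext.2 fun z hz => ?_⟩, ?_⟩
  · have hzW : z ∈ W := by
      show redι Z z ∈ U
      rw [hz]; exact hTU ⟨ht, (range_redι Z).le ⟨z, hz⟩⟩
    exact ⟨⟨z, hzW⟩, hTf (show i ⟨z, hzW⟩ ∈ T by rw [hi, hz]; exact ht), rfl⟩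
  · have hzW : z ∈ W' := by
      show redι Z' z ∈ U'
      rw [hz]; exact hTU' ⟨ht, (range_redι Z').le ⟨z, hz⟩⟩
    have hzD : (⟨z, hzW⟩ : W'.toScheme) ∈ Dh' := hTh₀ (show i' ⟨z, hzW⟩ ∈ T by rw [hi', hz]; exact ht)
    exact ⟨⟨⟨z, hzW⟩, hzD⟩, hTg (show i' ⟨z, hzW⟩ ∈ T by rw [hi', hz]; exact ht), rfl⟩
  · -- affineness of the union
    let Y := Z ⊔ Z'
    obtain ⟨j, hj⟩ := RedSepLib.exists_lift_of_isReduced (redι Z) (redι Y)
      (by rw [range_redι, range_redι]; exact Set.subset_union_left)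
    obtain ⟨j', hj'⟩ := RedSepLib.exists_lift_of_isReduced (redι Z') (redι Y)
      (by rw [range_redι, range_redι]; exact Set.subset_union_right)
    haveI : IsClosedImmersion (j ≫ redι Y) := hj ▸ inferInstance
    haveI : IsClosedImmersion (j' ≫ redι Y) := hj' ▸ inferInstance
    haveI : IsClosedImmersion j := IsClosedImmersion.of_comp j (redι Y)
    haveI : IsClosedImmersion j' := IsClosedImmersion.of_comp j' (redι Y)
    let Q := redι Y ⁻¹ᵁ Un
    have e : j ⁻¹ᵁ Q = Df := by rw [← hUZ, ← hj]; rfl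
    have e' : j' ⁻¹ᵁ Q = Dg := by rw [← hUZ', ← hj']; rfl
    haveI : IsAffine (j ⁻¹ᵁ Q).toScheme := by
      rw [e]; exact ((isAffineOpen_top W.toScheme).basicOpen f).image_of_isOpenImmersion W.ι
    haveI : IsAffine (j' ⁻¹ᵁ Q).toScheme := by
      rw [e']; exact ((isAffineOpen_top Dh'.toScheme).basicOpen g).image_of_isOpenImmersion ιh
    haveI : IsFinite (j ∣_ Q) := IsZariskiLocalAtTarget.restrict (P := @IsFinite) inferInstance Q
    haveI : IsFinite (j' ∣_ Q) := IsZariskiLocalAtTarget.restrict (P := @IsFinite) inferInstance Q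
    haveI : Surjective (coprod.desc (j ∣_ Q) (j' ∣_ Q)) := ⟨fun q => by
      have hq : redι Y q.1 ∈ (Z : Set X) ∪ (Z' : Set X) := (range_redι Y).le ⟨_, rfl⟩
      rcases hq with hq | hq
      · obtain ⟨z, hz⟩ := (range_redι Z).ge hq
        have hjz : j z = q.1 := (redι Y).isClosedEmbedding.injective ((congr($hj z)).trans hz)
        refine ⟨(coprod.inl : (j ⁻¹ᵁ Q).toScheme ⟶ _) ⟨z, show j z ∈ Q by rw [hjz]; exact q.2⟩, ?_⟩
        refine ((Scheme.Hom.comp_apply _ _ _).symm.trans ?_)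
        rw [coprod.inl_desc]
        exact Subtype.ext ((congr($(morphismRestrict_ι j Q) _)).trans hjz)
      · obtain ⟨z, hz⟩ := (range_redι Z').ge hq
        have hjz : j' z = q.1 := (redι Y).isClosedEmbedding.injective ((congr($hj' z)).trans hz)
        refine ⟨(coprod.inr : (j' ⁻¹ᵁ Q).toScheme ⟶ _) ⟨z, show j' z ∈ Q by rw [hjz]; exact q.2⟩, ?_⟩
        refine ((Scheme.Hom.comp_apply _ _ _).symm.trans ?_)
        rw [coprod.inr_desc]
        exact Subtype.ext ((congr($(morphismRestrict_ι j' Q) _)).trans hjz)⟩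
    exact AbsApprox.isAffine_of_universallyClosed (coprod.desc (j ∣_ Q) (j' ∣_ Q))

/-- Finitely many points with affine neighbourhoods on each member of a finite closed cover have an
affine neighbourhood. -/
theorem exists_affine {T : Set X} (hT : T.Finite) {κ : Type*} (s : Finset κ) (Z : κ → Closeds X)
    (hcov : ∀ x : X, ∃ k ∈ s, x ∈ (Z k : Set X)) (h : ∀ k ∈ s, Good T (Z k)) :
    ∃ U : X.Opens, IsAffineOpen U ∧ T ⊆ U := by
  classical
  have key : ∀ t : Finset κ, t ⊆ s → Good T (t.sup Z) := by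
    intro t
    induction t using Finset.induction_on with
    | empty =>
      intro _
      refine ⟨⊥, fun x hx => ?_, ?_⟩
      · simp at hx
      · simpa using isAffineOpen_bot _
    | insert k t _ ih =>
      intro hts
      rw [Finset.sup_insert]
      exact good_union hT _ _ (h k (hts (Finset.mem_insert_self k t)))
        (ih fun x hx => hts (Finset.mem_insert_of_mem hx))
  obtain ⟨U, hTU, hU⟩ := key s le_rfl
  have htop : ∀ x : X, x ∈ ((s.sup Z : Closeds X) : Set X) := fun x => by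
    obtain ⟨k, hk, hxk⟩ := hcov x
    exact (Finset.le_sup hk : Z k ≤ s.sup Z) hxk
  haveI : Surjective (redι (s.sup Z) ∣_ U) := ⟨fun u => by
    obtain ⟨z, hz⟩ := (range_redι (s.sup Z)).ge (htop u.1)
    exact ⟨⟨z, show redι _ z ∈ U by rw [hz]; exact u.2⟩,
      Subtype.ext ((congr($(morphismRestrict_ι (redι (s.sup Z)) U) _)).trans hz)⟩⟩
  haveI : UniversallyClosed (redι (s.sup Z) ∣_ U) := IsZariskiLocalAtTarget.restrict (P := @UniversallyClosed) inferInstance U
  haveI : IsAffine (redι (s.sup Z) ⁻¹ᵁ U).toScheme := hU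
  exact ⟨U, AbsApprox.isAffine_of_universallyClosed (redι (s.sup Z) ∣_ U), fun t ht => hTU ⟨ht, htop t⟩⟩

end Groth.Agent.CompAffine
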